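import Mathlib

/-!
Regular matrices: a commutant of dimension `n` gives a cyclic vector, and over any ring fibrewise
cyclicity makes the commutant free on `1, g, …, g^(n-1)`.
-/

namespace Groth.Agent.GLReg.Cyclic

open Polynomial Module Matrix
open scoped DirectSum

universe u

variable {n : ℕ}

section Ring

variable {B : Type*} [CommRing B]

/-- The matrix with columns `g^i v`. -/
def Kr (g : Matrix (Fin n) (Fin n) B) (v : Fin n → B) : Matrix (Fin n) (Fin n) B :=
  Matrix.of fun r i => ((g ^ (i : ℕ)) *ᵥ v) r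

theorem Kr_mulVec (g : Matrix (Fin n) (Fin n) B) (v c : Fin n → B) :
    Kr g v *ᵥ c = (∑ i : Fin n, c i • g ^ (i : ℕ)) *ᵥ v := by
  funext r
  simp [Kr, Matrix.mulVec, dotProduct, Matrix.sum_apply, Finset.sum_mul]
  rw [Finset.sum_comm]
  simp only [mul_comm, mul_left_comm]

theorem Kr_map {C : Type*} [CommRing C] (φ : B →+* C) (g : Matrix (Fin n) (Fin n) B) (v : Fin n → B) :
    (Kr g v).map φ = Kr (g.map φ) (φ ∘ v) := by
  ext r i
  simp only [Kr, Matrix.map_apply, Matrix.of_apply, RingHom.map_mulVec]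
  rw [← Matrix.map_pow g φ]

/-- Cyclic vectors exist locally. -/
def Reg (g : Matrix (Fin n) (Fin n) B) : Prop :=
  Ideal.span (Set.range fun v => (Kr g v).det) = ⊤

variable {g : Matrix (Fin n) (Fin n) B}

theorem exists_coeff (hg : Reg g) {x : Matrix (Fin n) (Fin n) B} (hx : Commute x g) :
    ∃ c : Fin n → B, x = ∑ i : Fin n, c i • g ^ (i : ℕ) := by
  let S : Ideal B :=
    { carrier := {b | ∃ c : Fin n → B, b • x = ∑ i : Fin n, c i • g ^ (i : ℕ)}
      add_mem' := by
        rintro a b ⟨c, hc⟩ ⟨d, hd⟩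
        exact ⟨c + d, by simp [add_smul, hc, hd, Finset.sum_add_distrib]⟩
      zero_mem' := ⟨0, by simp⟩
      smul_mem' := by
        rintro r b ⟨c, hc⟩
        exact ⟨r • c, by simp [mul_smul, hc, Finset.smul_sum]⟩ }
  have hS : S = ⊤ := by
    rw [eq_top_iff, ← Ideal.span_pow_eq_top _ hg 2, Ideal.span_le]
    rintro _ ⟨_, ⟨v, rfl⟩, rfl⟩
    set f := (Kr g v).det with hf
    set d := (Kr g v).adjugate *ᵥ (x *ᵥ v) with hd
    set y := f • x - ∑ i : Fin n, d i • g ^ (i : ℕ) with hy
    have hcomm : Commute y g :=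
      (hx.smul_left f).sub_left (Commute.sum_left _ _ _ fun i _ => ((Commute.refl g).pow_left _).smul_left _)
    have hyv : y *ᵥ v = 0 := by
      rw [hy, Matrix.sub_mulVec, ← Kr_mulVec, hd, Matrix.mulVec_mulVec, Matrix.mul_adjugate,
        Matrix.smul_mulVec, Matrix.smul_mulVec, Matrix.one_mulVec, sub_self]
    have hyK : y * Kr g v = 0 := by
      ext r i
      have h : y *ᵥ ((g ^ (i : ℕ)) *ᵥ v) = 0 := by
        rw [Matrix.mulVec_mulVec, (hcomm.pow_right _).eq, ← Matrix.mulVec_mulVec, hyv, Matrix.mulVec_zero]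
      exact congrFun h r
    have hfy : f • y = 0 := by
      have := congrArg (· * (Kr g v).adjugate) hyK
      simpa [mul_assoc, Matrix.mul_adjugate] using this
    refine ⟨f • d, ?_⟩
    rw [hy, smul_sub, sub_eq_zero, smul_smul, ← sq, Finset.smul_sum] at hfy
    simp only [Pi.smul_apply, smul_assoc]
    exact hfy
  obtain ⟨c, hc⟩ : (1 : B) ∈ S := hS ▸ Submodule.mem_top
  exact ⟨c, by rwa [one_smul] at hc⟩

theorem coeff_unique (hg : Reg g) {c d : Fin n → B}
    (h : ∑ i : Fin n, c i • g ^ (i : ℕ) = ∑ i : Fin n, d i • g ^ (i : ℕ)) : c = d := by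
  have key : ∀ v, (Kr g v).det • (c - d) = 0 := fun v => by
    have e : Kr g v *ᵥ (c - d) = 0 := by
      rw [Matrix.mulVec_sub, Kr_mulVec, Kr_mulVec, h, sub_self]
    have := congrArg ((Kr g v).adjugate *ᵥ ·) e
    simpa [Matrix.mulVec_mulVec, Matrix.adjugate_mul, Matrix.smul_mulVec] using this
  refine sub_eq_zero.mp (funext fun i => ?_)
  let S : Ideal B := LinearMap.ker (LinearMap.toSpanSingleton B B ((c - d) i))
  have hS : S = ⊤ := by
    rw [eq_top_iff, ← hg, Ideal.span_le]
    rintro _ ⟨v, rfl⟩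
    simpa [S] using congrFun (key v) i
  have : (1 : B) ∈ S := hS ▸ Submodule.mem_top
  simpa [S] using this

theorem commute_of_commute (hg : Reg g) {x y : Matrix (Fin n) (Fin n) B} (hx : Commute x g)
    (hy : Commute y g) : Commute x y := by
  obtain ⟨c, rfl⟩ := exists_coeff hg hx
  exact Commute.sum_left _ _ _ fun i _ => ((hy.symm.pow_left _).smul_left _)

theorem reg_of_isUnit (v : Fin n → B) (h : IsUnit (Kr g v).det) : Reg g :=
  Ideal.eq_top_of_isUnit_mem _ (Ideal.subset_span ⟨v, rfl⟩) h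

end Ring

section Field

variable {K : Type u} [Field K]

theorem exists_cyclic (g : Matrix (Fin n) (Fin n) K)
    (h : finrank K (Subalgebra.centralizer K ({g} : Set (Matrix (Fin n) (Fin n) K))) = n) :
    ∃ v : Fin n → K, ∀ w, ∃ P : K[X], aeval g P *ᵥ v = w := by
  classical
  let T : Module.End K (Fin n → K) := Matrix.toLinAlgEquiv' g
  obtain ⟨ι, _, p, hp, e, ⟨E₀⟩⟩ := Module.equiv_directSum_of_isTorsion
    (Module.AEval.isTorsion_of_finiteDimensional K (Fin n → K) T)
  let I : ι → Ideal K[X] := fun i => Ideal.span {p i ^ e i}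
  let W := ∀ i, K[X] ⧸ I i
  let E : AEval' T ≃ₗ[K[X]] W := E₀.trans (DirectSum.linearEquivFunOnFintype K[X] ι _)
  let ε : (Fin n → K) ≃ₗ[K] W := (Module.AEval'.of T).trans (E.restrictScalars K)
  have hfinW : Module.Finite K W := Module.Finite.equiv ε
  have hW : finrank K W = n := by rw [← ε.finrank_eq, Module.finrank_fin_fun]
  have hεX : ∀ v, ε (g *ᵥ v) = (X : K[X]) • ε v := fun v => by
    change E (Module.AEval'.of T (T v)) = (X : K[X]) • E (Module.AEval'.of T v)
    rw [← E.map_smul, Module.AEval'.X_smul_of]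
  by_cases hco : ∀ i j, i ≠ j → IsCoprime (p i ^ e i) (p j ^ e j)
  · refine ⟨ε.symm 1, fun w => ?_⟩
    choose r hr using fun i => Ideal.Quotient.mk_surjective (ε w i)
    have hI : Pairwise fun i j => IsCoprime (I i) (I j) := fun i j hij =>
      (Ideal.isCoprime_span_singleton_iff _ _).mpr (hco i j hij)
    obtain ⟨P, hP⟩ := Ideal.exists_forall_sub_mem_ideal hI r
    refine ⟨P, ε.injective ?_⟩
    have hPs : ε (aeval g P *ᵥ ε.symm 1) = P • (1 : W) := by
      have e1 : aeval g P *ᵥ ε.symm 1 = aeval T P • ε.symm 1 := by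
        change _ = (aeval (Matrix.toLinAlgEquiv' g) P) (ε.symm 1)
        rw [show aeval (Matrix.toLinAlgEquiv' g) P = Matrix.toLinAlgEquiv' (aeval g P) from
          aeval_algHom_apply (Matrix.toLinAlgEquiv' : Matrix (Fin n) (Fin n) K ≃ₐ[K] _).toAlgHom g P]
        rfl
      rw [e1]
      change E (Module.AEval'.of T (aeval T P • ε.symm 1)) = _
      rw [Module.AEval.of_aeval_smul, map_smul]
      congr 1
      exact ε.apply_symm_apply 1
    rw [hPs]
    funext i
    rw [Pi.smul_apply, Pi.one_apply, ← hr i]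
    change Ideal.Quotient.mk (I i) (P • 1) = _
    rw [smul_eq_mul, mul_one]
    exact Ideal.Quotient.eq.mpr (hP i)
  · exfalso
    push Not at hco
    obtain ⟨i, j, hij, hnc⟩ := hco
    have hei : e i ≠ 0 := fun h0 => hnc (by rw [h0, pow_zero]; exact isCoprime_one_left)
    have hej : e j ≠ 0 := fun h0 => hnc (by rw [h0, pow_zero]; exact isCoprime_one_right)
    have hassoc : p j ∣ p i := by
      by_contra hd
      exact hnc (((hp j).coprime_iff_not_dvd.mpr hd).symm.pow)
    let z : K[X] ⧸ I j := Ideal.Quotient.mk (I j) (p j ^ (e j - 1))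
    have hz : z ≠ 0 := by
      rw [Ne, Ideal.Quotient.eq_zero_iff_mem, Ideal.mem_span_singleton]
      intro hd
      have h1 := (pow_dvd_pow_iff (hp j).ne_zero (hp j).not_isUnit).mp hd
      omega
    have hker : I i ≤ LinearMap.ker (LinearMap.toSpanSingleton K[X] (K[X] ⧸ I j) z) := by
      rw [Ideal.span_le, Set.singleton_subset_iff, SetLike.mem_coe, LinearMap.mem_ker,
        LinearMap.toSpanSingleton_apply]
      change Ideal.Quotient.mk (I j) (p i ^ e i • p j ^ (e j - 1)) = 0
      rw [smul_eq_mul, Ideal.Quotient.eq_zero_iff_mem, Ideal.mem_span_singleton]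
      obtain ⟨m, hm⟩ : p j ∣ p i ^ e i := hassoc.trans (dvd_pow_self _ hei)
      refine ⟨m, ?_⟩
      rw [hm, show e j = e j - 1 + 1 by omega, Nat.add_sub_cancel, pow_succ]
      ring
    let π : (K[X] ⧸ I i) →ₗ[K[X]] K[X] ⧸ I j := (I i).liftQ _ hker
    have hπ : π 1 = z := by
      change (I i).liftQ _ hker (Submodule.Quotient.mk 1) = z
      rw [Submodule.liftQ_apply, LinearMap.toSpanSingleton_apply, one_smul]
    let φ : W →ₗ[K[X]] W := (LinearMap.single K[X] (fun l => K[X] ⧸ I l) j).comp (π.comp (LinearMap.proj i))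
    let Φ : W × K →ₗ[K] Module.End K W :=
      (Algebra.lmul K W).toLinearMap.comp (LinearMap.fst K W K) +
        (LinearMap.snd K W K).smulRight (φ.restrictScalars K)
    let θ : W × K →ₗ[K] Matrix (Fin n) (Fin n) K :=
      (LinearMap.toMatrix' (R := K)).toLinearMap.comp (ε.symm.conj.toLinearMap.comp Φ)
    have hΦ : ∀ (q : W × K) (x : W), Φ q x = q.1 * x + q.2 • φ x := fun q x => rfl
    have hθ : ∀ q, θ q ∈ Subalgebra.centralizer K ({g} : Set (Matrix (Fin n) (Fin n) K)) := fun q => by
      rw [Subalgebra.mem_centralizer_iff]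
      rintro _ rfl
      apply Matrix.toLin'.injective
      refine LinearMap.ext fun v => ?_
      simp only [θ, LinearMap.comp_apply, LinearEquiv.coe_coe, Matrix.toLin'_mul, Matrix.toLin'_toMatrix',
        LinearEquiv.conj_apply, LinearEquiv.symm_symm, Matrix.toLin'_apply]
      apply ε.injective
      rw [hεX, ε.apply_symm_apply, ε.apply_symm_apply, hεX, hΦ, hΦ, map_smul, smul_add, mul_smul_comm,
        smul_comm q.2]
    have hinj : Function.Injective θ := by
      rw [injective_iff_map_eq_zero]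
      intro q hq
      have h0 : Φ q = 0 := by
        have := hq
        simpa [θ] using this
      have hv : ∀ l (x : K[X] ⧸ I l), q.1 * Pi.single l x + q.2 • φ (Pi.single l x) = 0 := fun l x => by
        rw [← hΦ, h0, LinearMap.zero_apply]
      have hφ : ∀ x : W, φ x = Pi.single j (π (x i)) := fun x => rfl
      have hq1 : q.1 = 0 := by
        funext l
        have := congrFun (hv l 1) l
        rw [hφ, Pi.add_apply, Pi.mul_apply, Pi.smul_apply, Pi.single_eq_same, mul_one] at this
        rcases eq_or_ne l j with rfl | hl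
        · rwa [Pi.single_eq_of_ne hij, map_zero, Pi.single_zero, Pi.zero_apply, smul_zero, add_zero] at this
        · rwa [Pi.single_eq_of_ne hl, smul_zero, add_zero] at this
      have hq2 : q.2 = 0 := by
        have := congrFun (hv i 1) j
        rw [hφ, hq1, zero_mul, zero_add, Pi.smul_apply, Pi.single_eq_same, Pi.single_eq_same, hπ] at this
        exact (smul_eq_zero.mp this).resolve_right hz
      exact Prod.ext hq1 hq2
    have := LinearMap.finrank_le_finrank_of_injective
      (f := θ.codRestrict (Subalgebra.centralizer K ({g} : Set (Matrix (Fin n) (Fin n) K))).toSubmodule hθ)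
      fun a b hab => hinj (congrArg Subtype.val hab)
    rw [Module.finrank_prod, hW, Module.finrank_self, Subalgebra.finrank_toSubmodule, h] at this
    omega

theorem exists_det_ne_zero (g : Matrix (Fin n) (Fin n) K)
    (h : finrank K (Subalgebra.centralizer K ({g} : Set (Matrix (Fin n) (Fin n) K))) = n) :
    ∃ v, (Kr g v).det ≠ 0 := by
  rcases Nat.eq_zero_or_pos n with rfl | hn
  · exact ⟨0, by simp⟩
  obtain ⟨v, hv⟩ := exists_cyclic g h
  refine ⟨v, ?_⟩
  rw [← isUnit_iff_ne_zero, ← Matrix.isUnit_iff_isUnit_det, ← Matrix.mulVec_surjective_iff_isUnit]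
  intro w
  obtain ⟨P, hP⟩ := hv w
  refine ⟨fun i => (P %ₘ g.charpoly).coeff i, ?_⟩
  rw [Kr_mulVec, ← hP]
  congr 1
  rw [Matrix.aeval_eq_aeval_mod_charpoly, Polynomial.aeval_eq_sum_range' (n := n) ?_,
    Fin.sum_univ_eq_sum_range fun i => (P %ₘ g.charpoly).coeff i • g ^ i]
  have := Polynomial.natDegree_modByMonic_lt P g.charpoly_monic (q := g.charpoly) ?_
  · rwa [Matrix.charpoly_natDegree_eq_dim, Fintype.card_fin] at this
  · intro h1
    have := congrArg Polynomial.natDegree h1
    rw [Matrix.charpoly_natDegree_eq_dim, Fintype.card_fin, natDegree_one] at this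
    omega

end Field

theorem reg_map {A B : Type u} [CommRing A] [CommRing B] (g : Matrix (Fin n) (Fin n) A)
    (hreg : ∀ (K : Type u) [Field K] (φ : A →+* K),
      finrank K (Subalgebra.centralizer K ({g.map φ} : Set (Matrix (Fin n) (Fin n) K))) = n)
    (f : A →+* B) : Reg (g.map f) := by
  by_contra hne
  obtain ⟨m, hm, hle⟩ := Ideal.exists_le_maximal _ hne
  let _ := Ideal.Quotient.field m
  obtain ⟨v, hv⟩ := exists_det_ne_zero _ (hreg (B ⧸ m) ((Ideal.Quotient.mk m).comp f))
  obtain ⟨w, rfl⟩ := (Ideal.Quotient.mk_surjective (I := m)).comp_left v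
  apply hv
  have hmem : (Kr (g.map f) w).det ∈ m := hle (Ideal.subset_span ⟨w, rfl⟩)
  rw [← Ideal.Quotient.eq_zero_iff_mem, RingHom.map_det, RingHom.mapMatrix_apply, Kr_map,
    Matrix.map_map] at hmem
  exact hmem

end Groth.Agent.GLReg.Cyclic
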